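/-
Normal subgroups `N` outside which all elements have prime power order.

* `eq_one_of_commute`: a `q`-element outside `N` commutes with no non-trivial `q'`-element of `N`
* `rank_one`: if `N` is not a prime power group and centralizes suitable sections, the quotient has rank one
-/
import Cfsg.Agent.EqLemmas

set_option autoImplicit false
set_option linter.unusedSectionVars false
set_option linter.style.haveILetI false

open Subgroup

universe u

namespace Cfsg.Agent.OuterPrimePower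

variable {G : Type u} [Group G] [Finite G]

theorem isPrimePow_quotient {N : Subgroup G} [N.Normal] (h : ∀ x : G, x ∉ N → IsPrimePow (orderOf x))
    {y : G ⧸ N} (hy : y ≠ 1) : IsPrimePow (orderOf y) := by
  obtain ⟨x, rfl⟩ := QuotientGroup.mk'_surjective N y
  have hx : x ∉ N := fun hx => hy ((QuotientGroup.eq_one_iff x).mpr hx)
  exact (h x hx).dvd (orderOf_map_dvd (QuotientGroup.mk' N) x) (orderOf_eq_one_iff.not.mpr hy)

/-- An element outside `N` with a power in `N` of prime exponent `q` has `q`-power order. -/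
theorem orderOf_eq_pow {N : Subgroup G} (h : ∀ x : G, x ∉ N → IsPrimePow (orderOf x)) {q : ℕ} (hq : q.Prime)
    {x : G} (hx : x ∉ N) (hxq : x ^ q ∈ N) : ∃ j : ℕ, orderOf x = q ^ j := by
  obtain ⟨ℓ, j, hℓ, -, hj⟩ := h x hx
  refine ⟨j, ?_⟩
  rw [← hj]
  by_contra hne
  apply hx
  have hco : q.Coprime (ℓ ^ j) := Nat.Coprime.pow_right j
    ((Nat.coprime_primes hq hℓ.nat_prime).mpr fun e => hne (by rw [e]))
  obtain ⟨e, he⟩ := exists_pow_eq_self_of_coprime (x := x) (n := q) (hj ▸ hco)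
  rw [← he]; exact pow_mem hxq e

theorem eq_one_of_commute {N : Subgroup G} (h : ∀ x : G, x ∉ N → IsPrimePow (orderOf x)) {q : ℕ} (hq : q.Prime)
    {x c : G} (hx : x ∉ N) (hxq : x ^ q ∈ N) (hc : c ∈ N) (hxc : x * c = c * x) (hco : ¬ q ∣ orderOf c) :
    c = 1 := by
  obtain ⟨j, hj⟩ := orderOf_eq_pow h hq hx hxq
  have hx1 : orderOf x ≠ 1 := fun e => hx (by rw [orderOf_eq_one_iff] at e; rw [e]; exact one_mem _)
  have hcop : (orderOf x).Coprime (orderOf c) := hj ▸ ((hq.coprime_iff_not_dvd.mpr hco).pow_left j)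
  have hord := Commute.orderOf_mul_eq_mul_orderOf_of_coprime hxc hcop
  have hxcN : x * c ∉ N := fun e => hx (by simpa using mul_mem e (inv_mem hc))
  obtain ⟨ℓ, m, hℓ, -, hm⟩ := h (x * c) hxcN
  rw [hord] at hm
  by_contra hc1
  obtain ⟨t, ht, htc⟩ := Nat.exists_prime_and_dvd (orderOf_eq_one_iff.not.mpr hc1)
  have hqx : q ∣ orderOf x := by
    rcases Nat.eq_zero_or_pos j with e | e
    · exact absurd (by rw [hj, e, pow_zero]) hx1
    · rw [hj]; exact dvd_pow_self q e.ne'
  have h1 : q ∣ ℓ ^ m := hm ▸ hqx.mul_right _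
  have h2 : t ∣ ℓ ^ m := hm ▸ htc.mul_left _
  rw [(Nat.prime_dvd_prime_iff_eq hq hℓ.nat_prime).mp (hq.dvd_of_dvd_pow h1),
    ← (Nat.prime_dvd_prime_iff_eq ht hℓ.nat_prime).mp (ht.dvd_of_dvd_pow h2)] at hco
  exact hco htc

/-- Two commuting automorphisms of coprime prime order with all non-trivial products fixed point free. -/
theorem false_of_two {A : Type u} [AddCommGroup A] {q r : ℕ} (hq : q.Prime) (hr : r.Prime) (hqr : q ≠ r)
    (a b : AddMonoid.End A) (hab : Commute a b) (ha : a ^ q = 1) (hb : b ^ q = 1)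
    (hfa : ∀ k : ℕ, 0 < k → k < q → ∀ v : A, (a ^ k) v = v → v = 0)
    (hfb : ∀ i : ℕ, ∀ v : A, (a ^ i * b) v = v → v = 0) {v : A} (hv : r • v = 0) : v = 0 := by
  have hN : ∀ c : AddMonoid.End A, c ^ q = 1 → (∀ v : A, c v = v → v = 0) →
      ∑ k ∈ Finset.range q, c ^ k = 0 := by
    intro c hc hf
    ext w
    apply hf
    have h1 := mul_geom_sum c q
    rw [hc, sub_self, sub_mul, one_mul, sub_eq_zero] at h1
    exact DFunLike.congr_fun h1 w
  have hkey : ∑ i ∈ Finset.range q, ∑ k ∈ Finset.range q, (a ^ i * b) ^ k = (q : AddMonoid.End A) := by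
    rw [Finset.sum_comm, Finset.sum_eq_single (0 : ℕ)]
    · simp
    · intro k hk hk0
      have hk' := Finset.mem_range.mp hk
      have h1 : ∀ i : ℕ, (a ^ i * b) ^ k = (a ^ k) ^ i * b ^ k := fun i => by
        rw [(hab.pow_left i).mul_pow, ← pow_mul, ← pow_mul, mul_comm]
      simp only [h1, ← Finset.sum_mul]
      rw [hN (a ^ k) (by rw [← pow_mul, mul_comm, pow_mul, ha, one_pow]) (hfa k (Nat.pos_of_ne_zero hk0) hk'),
        zero_mul]
    · intro h; exact absurd (Finset.mem_range.mpr hq.pos) h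
  have h0 : (q : AddMonoid.End A) = 0 := by
    rw [← hkey]
    refine Finset.sum_eq_zero fun i _ => hN _ ?_ (hfb i)
    rw [(hab.pow_left i).mul_pow, ← pow_mul, mul_comm i q, pow_mul, ha, one_pow, hb, one_mul]
  have hqv : q • v = 0 := by
    have := DFunLike.congr_fun h0 v
    simpa using this
  have h1 : addOrderOf v ∣ Nat.gcd q r := Nat.dvd_gcd (addOrderOf_dvd_of_nsmul_eq_zero hqv)
    (addOrderOf_dvd_of_nsmul_eq_zero hv)
  rw [(Nat.coprime_primes hq hr).mpr hqr, Nat.dvd_one, AddMonoid.addOrderOf_eq_one_iff] at h1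
  exact h1

/-- Elements of order `q` of the quotient that commute generate a cyclic group. -/
theorem rank_one {N : Subgroup G} [N.Normal] (h : ∀ x : G, x ∉ N → IsPrimePow (orderOf x))
    {q r : ℕ} (hq : q.Prime) (hr : r.Prime) (hqr : q ≠ r) {H V : Subgroup G} (hHN : H ⊔ N = ⊤)
    (hHV : H ≤ normalizer (V : Set G)) (hVN : V ≤ N) (hVc : ∀ u ∈ V, ∀ w ∈ V, u * w = w * u)
    (hV : ∀ u ∈ V, u ^ r = 1) (hV1 : V ≠ ⊥) (hC : H ⊓ N ≤ centralizer (V : Set G))
    {a b : G ⧸ N} (ha : orderOf a = q) (hb : orderOf b = q) (hab : a * b = b * a) : b ∈ zpowers a := by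
  by_contra hnot
  have hsurj : ∀ y : G ⧸ N, ∃ g ∈ H, (g : G ⧸ N) = y := by
    intro y
    obtain ⟨g, rfl⟩ := QuotientGroup.mk'_surjective N y
    obtain ⟨u, hu, w, hw, rfl⟩ := mem_sup_of_normal_right.mp (hHN.symm ▸ mem_top g : g ∈ H ⊔ N)
    exact ⟨u, hu, (QuotientGroup.eq).mpr (by simpa using hw)⟩
  obtain ⟨α, hαH, hα⟩ := hsurj a
  obtain ⟨β, hβH, hβ⟩ := hsurj b
  letI : CommGroup V := { (inferInstance : Group V) with mul_comm := fun u w => Subtype.ext (hVc u u.2 w w.2) }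
  let e : MulAut V →* AddMonoid.End (Additive V) :=
    { toFun := fun f => MonoidHom.toAdditive f.toMonoidHom
      map_one' := rfl
      map_mul' := fun _ _ => rfl }
  let ψ : H →* AddMonoid.End (Additive V) := e.comp (V.normalizerMonoidHom.comp (Subgroup.inclusion hHV))
  have hψ : ∀ (g : H) (u : V), ((Additive.toMul (ψ g (Additive.ofMul u)) : V) : G) = (g : G) * u * (g : G)⁻¹ :=
    fun g u => rfl
  have hker : ∀ g : H, (g : G) ∈ N → ψ g = 1 := by
    intro g hg
    ext u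
    have hc := mem_centralizer_iff.mp (hC ⟨g.2, hg⟩) ((Additive.toMul u : V) : G) (Additive.toMul u).2
    exact (hψ g (Additive.toMul u)).trans (mul_inv_eq_iff_eq_mul.mpr hc.symm)
  have hfpf : ∀ g : H, (g : G) ∉ N → (g : G) ^ q ∈ N → ∀ u, ψ g u = u → u = 0 := by
    intro g hg hgq u hu
    have h1 : (g : G) * (Additive.toMul u : V) * (g : G)⁻¹ = (Additive.toMul u : V) := by
      rw [← hψ g (Additive.toMul u)]; exact congrArg (fun w => ((Additive.toMul w : V) : G)) hu
    have h2 : ((Additive.toMul u : V) : G) = 1 := by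
      refine eq_one_of_commute h hq hg hgq (hVN (Additive.toMul u).2) (mul_inv_eq_iff_eq_mul.mp h1) fun hd => ?_
      have := hd.trans (orderOf_dvd_of_pow_eq_one (hV _ (Additive.toMul u).2))
      exact hqr ((Nat.prime_dvd_prime_iff_eq hq hr).mp this)
    exact Additive.toMul.injective (Subtype.ext h2)
  have hmk : ∀ (g : G) (m : ℕ), ((g ^ m : G) : G ⧸ N) = (g : G ⧸ N) ^ m := fun g m => rfl
  have hout : ∀ g : G, (g : G ⧸ N) ≠ 1 → g ∉ N := fun g hg h' => hg ((QuotientGroup.eq_one_iff g).mpr h')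
  have hin : ∀ g : G, (g : G ⧸ N) = 1 → g ∈ N := fun g hg => (QuotientGroup.eq_one_iff g).mp hg
  set A : H := ⟨α, hαH⟩
  set B : H := ⟨β, hβH⟩
  have hAq : ψ A ^ q = 1 := by
    rw [← map_pow]
    exact hker _ (hin _ (show ((α ^ q : G) : G ⧸ N) = 1 by rw [hmk, hα, ← ha, pow_orderOf_eq_one]))
  have hBq : ψ B ^ q = 1 := by
    rw [← map_pow]
    exact hker _ (hin _ (show ((β ^ q : G) : G ⧸ N) = 1 by rw [hmk, hβ, ← hb, pow_orderOf_eq_one]))
  have hcomm : Commute (ψ A) (ψ B) := by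
    have h1 : ψ (A * B * (B * A)⁻¹) = 1 := hker _ (hin _ (by
      show ((α * β * (β * α)⁻¹ : G) : G ⧸ N) = 1
      simp only [QuotientGroup.mk_mul, QuotientGroup.mk_inv, hα, hβ, hab, mul_inv_cancel]))
    show ψ A * ψ B = ψ B * ψ A
    calc ψ A * ψ B = ψ (A * B * (B * A)⁻¹ * (B * A)) := by rw [inv_mul_cancel_right, map_mul]
      _ = ψ B * ψ A := by rw [map_mul, h1, one_mul, map_mul]
  obtain ⟨⟨u, hu⟩, hu1⟩ := Subgroup.ne_bot_iff_exists_ne_one.mp hV1
  have hv := false_of_two hq hr hqr (ψ A) (ψ B) hcomm hAq hBq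
    (fun k hk hkq => by
      rw [← map_pow]
      refine hfpf _ (hout _ ?_) (hin _ ?_)
      · show ((α ^ k : G) : G ⧸ N) ≠ 1
        rw [hmk, hα]
        exact fun e => absurd (Nat.le_of_dvd hk (ha ▸ orderOf_dvd_of_pow_eq_one e)) (not_le.mpr hkq)
      · show (((α ^ k) ^ q : G) : G ⧸ N) = 1
        rw [hmk, hmk, hα, ← pow_mul, mul_comm, pow_mul, ← ha, pow_orderOf_eq_one, one_pow])
    (fun i => by
      rw [← map_pow, ← map_mul]
      refine hfpf _ (hout _ ?_) (hin _ ?_)
      · show ((α ^ i * β : G) : G ⧸ N) ≠ 1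
        rw [QuotientGroup.mk_mul, hmk, hα, hβ]
        exact fun e => hnot (by rw [eq_inv_of_mul_eq_one_right e]; exact inv_mem (pow_mem (mem_zpowers a) i))
      · show (((α ^ i * β) ^ q : G) : G ⧸ N) = 1
        rw [hmk, QuotientGroup.mk_mul, hmk, hα, hβ, ((show Commute a b from hab).pow_left i).mul_pow, ← pow_mul,
          mul_comm i q, pow_mul]
        conv_lhs => arg 1; arg 1; rw [← ha, pow_orderOf_eq_one]
        rw [one_pow, ← hb, pow_orderOf_eq_one, one_mul])
    (v := Additive.ofMul (⟨u, hu⟩ : V)) (by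
      show Additive.ofMul ((⟨u, hu⟩ : V) ^ r) = 0
      rw [show (⟨u, hu⟩ : V) ^ r = 1 from Subtype.ext (hV u hu)]; rfl)
  exact hu1 (Additive.ofMul.injective hv)

end Cfsg.Agent.OuterPrimePower
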