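/-
If all elements outside a normal subgroup `N` have prime power order and `N` is not a prime power group then
`G ⧸ N` is solvable.

* `isSolvable_of_rankOne`: prime power element orders and rank one imply solvable
* `main`
-/
import Cfsg.Agent.Lib.OuterPrimePower.Rank
import Cfsg.Agent.Lib.FourPrimes.Basic
import Cfsg.Agent.Lib.ZStarPrimePower.Proved
import Cfsg.Agent.Lib.Involution.ZStarApps
import Cfsg.Agent.Lib.CharApp.Burnside
import Cfsg.Agent.Lib.PGroup.UniqueOrderP

set_option autoImplicit false
set_option linter.unusedSectionVars false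
set_option linter.style.haveILetI false

open Subgroup

universe u

namespace Cfsg.Agent.OuterPrimePower

theorem primePow_of_surjective {A B : Type u} [Group A] [Group B] [Finite A] (f : A →* B)
    (hf : Function.Surjective f) (h : ∀ x : A, x ≠ 1 → IsPrimePow (orderOf x)) {y : B} (hy : y ≠ 1) :
    IsPrimePow (orderOf y) := by
  obtain ⟨x, rfl⟩ := hf y
  exact (h x fun e => hy (by rw [e, map_one])).dvd (orderOf_map_dvd f x) (orderOf_eq_one_iff.not.mpr hy)

/-- A group with prime power element orders and of rank one at every prime is solvable. -/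
theorem isSolvable_of_rankOne {Q : Type u} [Group Q] [Finite Q]
    (hpp : ∀ x : Q, x ≠ 1 → IsPrimePow (orderOf x))
    (hrk : ∀ q : ℕ, q.Prime → ∀ a b : Q, orderOf a = q → orderOf b = q → a * b = b * a → b ∈ zpowers a) :
    Group.IsSolvable Q := by
  have hodd : ∀ O : Subgroup Q, Odd (Nat.card O) → Group.IsSolvable O := by
    intro O hO
    haveI : IsZGroup O := ⟨fun q hq S => by
      haveI : Fact q.Prime := ⟨hq⟩
      refine (PGroup.unique_order_p_cases S.isPGroup' fun x y hx hy => ?_).resolve_right ?_
      · haveI : Nontrivial (S : Subgroup O) := ⟨⟨x, 1, fun e => hq.ne_one (by rw [← hx, e, orderOf_one])⟩⟩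
        haveI := S.isPGroup'.center_nontrivial
        obtain ⟨k, hk, hcard⟩ := (S.isPGroup'.to_subgroup (center (S : Subgroup O))).nontrivial_iff_card.1 inferInstance
        obtain ⟨z, hz⟩ := exists_prime_orderOf_dvd_card' (G := center (S : Subgroup O)) q (hcard ▸ dvd_pow_self q hk.ne')
        set w : (S : Subgroup O) := (z : (S : Subgroup O))
        have hw : orderOf w = q := by rw [Subgroup.orderOf_coe, hz]
        have hmem : ∀ y : (S : Subgroup O), orderOf y = q → y ∈ zpowers w := by
          intro y hy
          have h1 := hrk q hq ((w : O) : Q) ((y : O) : Q) (by rw [Subgroup.orderOf_coe, Subgroup.orderOf_coe, hw])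
            (by rw [Subgroup.orderOf_coe, Subgroup.orderOf_coe, hy])
            (congrArg (fun t : (S : Subgroup O) => ((t : O) : Q)) (mem_center_iff.mp z.2 y)).symm
          obtain ⟨m, hm⟩ := mem_zpowers_iff.mp h1
          exact mem_zpowers_iff.mpr ⟨m, Subtype.ext (Subtype.ext (by simpa using hm))⟩
        rcases eq_or_ne y 1 with rfl | hy1
        · exact one_mem _
        have hxw : zpowers x = zpowers w := Subgroup.eq_of_le_of_card_ge (zpowers_le.mpr (hmem x hx))
          (by rw [Nat.card_zpowers, Nat.card_zpowers, hx, hw])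
        rw [hxw]
        exact hmem y (orderOf_eq_prime hy hy1)
      · rintro ⟨rfl, n, ⟨e⟩⟩
        have h4 := Nat.card_congr e.toEquiv
        rw [Nat.card_eq_fintype_card (α := QuaternionGroup (2 ^ n)), QuaternionGroup.card] at h4
        have h2 : 2 ∣ Nat.card O := (show 2 ∣ Nat.card (S : Subgroup O) by rw [h4]; omega).trans
          (card_subgroup_dvd_card _)
        exact (Nat.not_even_iff_odd.mpr hO) (even_iff_two_dvd.mpr h2)⟩
    infer_instance
  rcases Nat.even_or_odd (Nat.card Q) with heven | hodd'
  · obtain ⟨z, hz, O, hOn, hOodd, hzc⟩ := Involution.exists_central_mod_odd_of_rank_one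
      ZStarPrimePower.uniqueInvolutionZStar_proved (G := Q) heven (fun E hE => by
        haveI := hE
        haveI : Nontrivial E := Finite.one_lt_card_iff_nontrivial.mp (by rw [hE.card_four]; omega)
        obtain ⟨a, ha⟩ := exists_ne (1 : E)
        have hord : ∀ c : E, c ≠ 1 → orderOf (c : Q) = 2 := fun c hc => by
          rw [Subgroup.orderOf_coe]
          exact orderOf_eq_prime (Monoid.exponent_dvd_iff_forall_pow_eq_one.mp hE.exponent_two.dvd c) hc
        have hall : ∀ b : E, (b : Q) ∈ zpowers (a : Q) := by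
          intro b
          rcases eq_or_ne b 1 with rfl | hb
          · exact one_mem _
          exact hrk 2 Nat.prime_two _ _ (hord a ha) (hord b hb)
            (congrArg Subtype.val (IsKleinFour.isMulCommutative.is_comm.comm a b))
        have := Subgroup.card_le_of_le (show E ≤ zpowers (a : Q) from fun b hb => hall ⟨b, hb⟩)
        rw [hE.card_four, Nat.card_zpowers, hord a ha] at this
        omega)
    haveI := hOn
    haveI := hodd O hOodd
    have h2 : IsPGroup 2 (Q ⧸ O) := by
      intro y
      obtain ⟨x, rfl⟩ := QuotientGroup.mk'_surjective O y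
      set zb := QuotientGroup.mk' O z
      set xb := QuotientGroup.mk' O x
      have hzO : z ∉ O := fun hzO => by
        have h1 : orderOf z ∣ Nat.card O := Subgroup.orderOf_mk z hzO ▸ orderOf_dvd_natCard _
        rw [hz] at h1
        exact (Nat.not_even_iff_odd.mpr hOodd) (even_iff_two_dvd.mpr h1)
      have hzb : orderOf zb = 2 := orderOf_eq_prime (by rw [← map_pow, ← hz, pow_orderOf_eq_one, map_one])
        fun e => hzO ((QuotientGroup.eq_one_iff z).mp e)
      have hc : Commute zb xb := by
        rw [commute_iff_eq, ← commutatorElement_eq_one_iff_mul_comm, ← map_commutatorElement]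
        exact (QuotientGroup.eq_one_iff _).mpr (hzc x)
      have hq : ∀ w : Q ⧸ O, w ≠ 1 → IsPrimePow (orderOf w) := fun w =>
        primePow_of_surjective (QuotientGroup.mk' O) (QuotientGroup.mk'_surjective O) hpp
      obtain ⟨k, hk⟩ : ∃ k, orderOf xb = 2 ^ k := by
        rcases eq_or_ne xb 1 with e | e
        · exact ⟨0, by rw [e, orderOf_one, pow_zero]⟩
        obtain ⟨ℓ, j, hℓ, hj0, hj⟩ := hq xb e
        rcases eq_or_ne ℓ 2 with rfl | hne
        · exact ⟨j, hj.symm⟩
        exfalso
        have hco : (orderOf zb).Coprime (orderOf xb) := by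
          rw [hzb, ← hj]; exact ((Nat.coprime_primes Nat.prime_two hℓ.nat_prime).mpr (Ne.symm hne)).pow_right j
        have hord := hc.orderOf_mul_eq_mul_orderOf_of_coprime hco
        have hne1 : zb * xb ≠ 1 := fun h1 => by
          rw [h1, orderOf_one, hzb] at hord
          omega
        obtain ⟨t, m, ht, -, hm⟩ := hq _ hne1
        rw [hord, hzb, ← hj] at hm
        have d1 := Nat.prime_two.dvd_of_dvd_pow (hm ▸ Dvd.intro _ rfl : 2 ∣ t ^ m)
        have d2 := hℓ.nat_prime.dvd_of_dvd_pow (hm ▸ (dvd_pow_self ℓ hj0.ne').mul_left 2 : ℓ ∣ t ^ m)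
        rw [Nat.prime_dvd_prime_iff_eq Nat.prime_two ht.nat_prime] at d1
        rw [Nat.prime_dvd_prime_iff_eq hℓ.nat_prime ht.nat_prime] at d2
        exact hne (d2.trans d1.symm)
      exact ⟨k, by rw [← hk, pow_orderOf_eq_one]⟩
    haveI : Group.IsNilpotent (Q ⧸ O) := h2.isNilpotent
    exact solvable_of_ker_le_range O.subtype (QuotientGroup.mk' O) (by rw [QuotientGroup.ker_mk', range_subtype])
  · haveI : Group.IsSolvable (⊤ : Subgroup Q) := hodd ⊤ (by rwa [Subgroup.card_top])
    exact solvable_of_surjective (f := (Subgroup.topEquiv : (⊤ : Subgroup Q) ≃* Q).toMonoidHom) Subgroup.topEquiv.surjective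

theorem isPGroup_of_forall_prime_dvd {A : Type u} [Group A] [Finite A] {r : ℕ}
    (h : ∀ q : ℕ, q.Prime → q ∣ Nat.card A → q = r) : IsPGroup r A :=
  IsPGroup.of_card (n := (Nat.card A).primeFactorsList.length)
    (Nat.eq_prime_pow_of_unique_prime_dvd Nat.card_pos.ne' fun {d} hd hdA => h d hd hdA)

/-- The omega one of the centre. -/
def omegaZ {G' : Type u} [Group G'] (R : Subgroup G') (r : ℕ) : Subgroup G' where
  carrier := {v | v ∈ R ∧ (∀ u ∈ R, u * v = v * u) ∧ v ^ r = 1}
  one_mem' := ⟨one_mem _, fun u _ => by simp, one_pow r⟩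
  mul_mem' := by
    rintro a b ⟨ha, hac, har⟩ ⟨hb, hbc, hbr⟩
    refine ⟨mul_mem ha hb, fun u hu => ?_, by rw [(show Commute a b from hbc a ha).mul_pow, har, hbr, one_mul]⟩
    exact ((show Commute u a from hac u hu).mul_right (hbc u hu)).eq
  inv_mem' := by
    rintro a ⟨ha, hac, har⟩
    exact ⟨inv_mem ha, fun u hu => ((show Commute u a from hac u hu).inv_right).eq, by rw [inv_pow, har, inv_one]⟩

/-- The main theorem. -/
theorem main : ∀ (n : ℕ) (G : Type u) [Group G] [Finite G], Nat.card G = n → ∀ (N : Subgroup G) [N.Normal],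
    (∀ x : G, x ∉ N → IsPrimePow (orderOf x)) →
    (∃ r s : ℕ, r.Prime ∧ s.Prime ∧ r ≠ s ∧ r ∣ Nat.card N ∧ s ∣ Nat.card N) → Group.IsSolvable (G ⧸ N) := by
  intro n
  induction n using Nat.strong_induction_on with
  | _ n ih =>
  intro G _ _ hn N _ h htwo
  by_contra hns
  -- every prime of `N` is good
  have hgood : ∀ r : ℕ, r.Prime → r ∣ Nat.card N → ∃ H V : Subgroup G, H ⊔ N = ⊤ ∧ H ≤ normalizer (V : Set G) ∧
      V ≤ N ∧ (∀ u ∈ V, ∀ w ∈ V, u * w = w * u) ∧ (∀ u ∈ V, u ^ r = 1) ∧ V ≠ ⊥ ∧
      H ⊓ N ≤ centralizer (V : Set G) := by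
    intro r hr hrN
    haveI : Fact r.Prime := ⟨hr⟩
    obtain ⟨R⟩ := (inferInstance : Nonempty (Sylow r N))
    set Rg := (R : Subgroup N).map N.subtype with hRg
    have hRp : IsPGroup r Rg := R.isPGroup'.map N.subtype
    have hRN : Rg ≤ N := map_subtype_le _
    have hfr : normalizer (Rg : Set G) ⊔ N = ⊤ := Sylow.normalizer_sup_eq_top R
    set H := normalizer (Rg : Set G) with hH
    set V := omegaZ Rg r with hV
    have hVR : V ≤ Rg := fun v hv => hv.1
    have hHV : H ≤ normalizer (V : Set G) := by
      intro g hg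
      rw [mem_normalizer_iff_map_conj_eq]
      refine Subgroup.eq_of_le_of_card_ge ?_ (Subgroup.card_map_of_injective (MulAut.conj g).injective).ge
      rintro _ ⟨v, ⟨hv, hvc, hvr⟩, rfl⟩
      refine ⟨(mem_normalizer_iff.mp hg v).mp hv, fun u hu => ?_, ?_⟩
      · have h1 := hvc _ ((mem_normalizer_iff.mp hg (g⁻¹ * u * g)).mpr (by simpa [mul_assoc] using hu))
        show u * (g * v * g⁻¹) = g * v * g⁻¹ * u
        calc u * (g * v * g⁻¹) = g * (g⁻¹ * u * g * v) * g⁻¹ := by group
          _ = g * (v * (g⁻¹ * u * g)) * g⁻¹ := by rw [h1]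
          _ = _ := by group
      · show (g * v * g⁻¹) ^ r = 1
        rw [conj_pow, hvr, mul_one, mul_inv_cancel]
    have hV1 : V ≠ ⊥ := by
      haveI : Nontrivial Rg := by
        rw [← Finite.one_lt_card_iff_nontrivial, hRg, card_map_of_injective N.subtype_injective]
        exact lt_of_lt_of_le hr.one_lt (Nat.le_of_dvd Nat.card_pos (R.dvd_card_of_dvd_card hrN))
      haveI := hRp.center_nontrivial
      obtain ⟨k, hk, hcard⟩ := (hRp.to_subgroup (center Rg)).nontrivial_iff_card.1 inferInstance
      obtain ⟨z, hz⟩ := exists_prime_orderOf_dvd_card' (G := center Rg) r (hcard ▸ dvd_pow_self r hk.ne')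
      intro hb
      have hzV : ((z : Rg) : G) ∈ V := ⟨(z : Rg).2,
        fun u hu => congrArg Subtype.val (mem_center_iff.mp z.2 ⟨u, hu⟩),
        orderOf_dvd_iff_pow_eq_one.mp (by rw [Subgroup.orderOf_coe, Subgroup.orderOf_coe, hz])⟩
      rw [hb, mem_bot] at hzV
      exact hr.ne_one (by rw [← hz, ← Subgroup.orderOf_coe, ← Subgroup.orderOf_coe, hzV, orderOf_one])
    refine ⟨H, V, hfr, hHV, hVR.trans hRN, fun u hu w hw => hw.2.1 u hu.1, fun u hu => hu.2.2, hV1, ?_⟩
    by_contra hC
    have hRC : Rg ≤ centralizer (V : Set G) := fun u hu => mem_centralizer_iff.mpr fun v hv => (hv.2.1 u hu).symm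
    by_cases htop : H = ⊤
    · -- `R` is normal
      haveI hRn : Rg.Normal := normalizer_eq_top_iff.mp htop
      have hidx : Nat.card Rg * (R : Subgroup N).index = Nat.card N := by
        rw [hRg, card_map_of_injective N.subtype_injective, card_mul_index]
      by_cases htwo' : ∃ a b : ℕ, a.Prime ∧ b.Prime ∧ a ≠ b ∧ a ∣ (R : Subgroup N).index ∧ b ∣ (R : Subgroup N).index
      · apply hns
        set π := QuotientGroup.mk' Rg
        have hπ : Function.Surjective π := QuotientGroup.mk'_surjective Rg
        haveI : (N.map π).Normal := (inferInstance : N.Normal).map π hπ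
        have hlt : Nat.card (G ⧸ Rg) < n := by
          rw [← hn, ← index_eq_card, ← Rg.card_mul_index]
          refine lt_mul_of_one_lt_left (Nat.pos_of_ne_zero FiniteIndex.index_ne_zero) ?_
          rw [hRg, card_map_of_injective N.subtype_injective]
          exact lt_of_lt_of_le hr.one_lt (Nat.le_of_dvd Nat.card_pos (R.dvd_card_of_dvd_card hrN))
        have hcard : Nat.card (N.map π) = (R : Subgroup N).index := by
          have e := (Rg.subgroupOf N).card_mul_index
          rw [Nat.card_congr (subgroupOfEquivOfLe hRN).toEquiv] at e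
          have e2 : Nat.card (N.map π) = (Rg.subgroupOf N).index := by
            have hk : (π.comp N.subtype).ker = Rg.subgroupOf N := by
              ext u; rw [MonoidHom.mem_ker, mem_subgroupOf]; exact QuotientGroup.eq_one_iff _
            rw [← hk, Subgroup.index_ker, MonoidHom.range_comp, range_subtype]
          rw [e2]
          exact Nat.eq_of_mul_eq_mul_left Nat.card_pos (e.trans hidx.symm)
        haveI := ih _ hlt (G ⧸ Rg) rfl (N.map π) (fun y hy => by
          obtain ⟨x, rfl⟩ := hπ y
          have hx : x ∉ N := fun hx => hy (mem_map_of_mem π hx)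
          exact (h x hx).dvd (orderOf_map_dvd π x) fun e => hy (by rw [orderOf_eq_one_iff.mp e]; exact one_mem _))
          (hcard ▸ htwo')
        exact solvable_of_surjective (f := (QuotientGroup.quotientQuotientEquivQuotient Rg N hRN).toMonoidHom)
          (MulEquiv.surjective _)
      · -- `N` involves two primes only
        obtain ⟨r', s', hr', hs', hrs', hr'N, hs'N⟩ := htwo
        obtain ⟨s, hs, hsr, hsN⟩ : ∃ s, s.Prime ∧ s ≠ r ∧ s ∣ Nat.card N := by
          rcases eq_or_ne r' r with rfl | hne
          · exact ⟨s', hs', hrs'.symm, hs'N⟩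
          · exact ⟨r', hr', hne, hr'N⟩
        haveI : Fact s.Prime := ⟨hs⟩
        obtain ⟨k, hk⟩ := IsPGroup.iff_card.mp hRp
        have hpr : ∀ t : ℕ, t.Prime → t ∣ Nat.card N → t = r ∨ t = s := by
          intro t ht htN
          by_contra hne
          rw [not_or] at hne
          refine htwo' ⟨s, t, hs, ht, fun e => hne.2 e.symm, ?_, ?_⟩
          · refine (hs.dvd_mul.mp (hidx.symm ▸ hsN)).resolve_left fun hd => hsr ?_
            rw [hk] at hd
            exact (Nat.prime_dvd_prime_iff_eq hs hr).mp (hs.dvd_of_dvd_pow hd)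
          · refine (ht.dvd_mul.mp (hidx.symm ▸ htN)).resolve_left fun hd => hne.1 ?_
            rw [hk] at hd
            exact (Nat.prime_dvd_prime_iff_eq ht hr).mp (ht.dvd_of_dvd_pow hd)
        obtain ⟨q, hq, hqr, hqs, hqQ⟩ : ∃ q, q.Prime ∧ q ≠ r ∧ q ≠ s ∧ q ∣ Nat.card (G ⧸ N) := by
          by_contra hno
          push Not at hno
          apply hns
          refine CharApp.isSolvable_of_card_eq_prime_pow_mul r s hr hs _ (G ⧸ N) rfl
            ((Nat.card (G ⧸ N)).factorization r) ((Nat.card (G ⧸ N)).factorization s) ?_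
          refine Nat.eq_of_factorization_eq Nat.card_pos.ne'
            (Nat.mul_ne_zero (pow_ne_zero _ hr.ne_zero) (pow_ne_zero _ hs.ne_zero)) fun t => ?_
          rw [Nat.factorization_mul (pow_ne_zero _ hr.ne_zero) (pow_ne_zero _ hs.ne_zero), Finsupp.add_apply,
            hr.factorization_pow, hs.factorization_pow]
          rcases eq_or_ne t r with rfl | htr
          · simp [hsr.symm]
          rcases eq_or_ne t s with rfl | hts
          · simp [hsr]
          rw [Finsupp.single_eq_of_ne htr, Finsupp.single_eq_of_ne hts]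
          by_contra hne
          have htp : t.Prime := by
            by_contra htp
            exact hne (Nat.factorization_eq_zero_of_not_prime _ htp)
          exact hts (Classical.byContradiction fun hh => hno t htp htr hh (Nat.dvd_of_factorization_pos hne))
        haveI : Fact q.Prime := ⟨hq⟩
        have hqN : ¬ q ∣ Nat.card N := fun hd => (hpr q hq hd).elim hqr hqs
        obtain ⟨S⟩ := (inferInstance : Nonempty (Sylow s N))
        set Sg := (S : Subgroup N).map N.subtype with hSg
        have hSp : IsPGroup s Sg := S.isPGroup'.map N.subtype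
        have hSN : Sg ≤ N := map_subtype_le _
        obtain ⟨y, hy⟩ := exists_prime_orderOf_dvd_card' (G := G ⧸ N) q hqQ
        obtain ⟨g, hg⟩ := QuotientGroup.mk'_surjective N y
        obtain ⟨x, hx, w, hw, hxw⟩ := mem_sup_of_normal_right.mp
          ((Sylow.normalizer_sup_eq_top S).symm ▸ mem_top g : g ∈ normalizer (Sg : Set G) ⊔ N)
        have hxy : (x : G ⧸ N) = y := by
          rw [← hg]; exact QuotientGroup.eq.mpr (by rw [← hxw]; simpa using hw)
        have hxN : x ∉ N := fun hx' => hq.ne_one (by
          rw [← hy, ← hxy, (QuotientGroup.eq_one_iff x).mpr hx', orderOf_one])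
        have hxq : x ^ q ∈ N := (QuotientGroup.eq_one_iff _).mp (by
          show ((x ^ q : G) : G ⧸ N) = 1
          rw [QuotientGroup.mk_pow, hxy, ← hy, pow_orderOf_eq_one])
        obtain ⟨j, hj⟩ := orderOf_eq_pow h hq hxN hxq
        have hxord : orderOf x = q := by
          refine orderOf_eq_prime (orderOf_eq_one_iff.mp ?_) fun e => hxN (e ▸ one_mem _)
          have h1 : orderOf (x ^ q) ∣ q ^ j := hj ▸ orderOf_pow_dvd q
          have h2 : orderOf (x ^ q) ∣ Nat.card N := Subgroup.orderOf_mk (x ^ q) hxq ▸ orderOf_dvd_natCard _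
          exact Nat.eq_one_of_dvd_coprimes ((hq.coprime_iff_not_dvd.mpr hqN).pow_left j) h1 h2
        have hfix : ∀ c ∈ N, c * x = x * c → c = 1 := fun c hc hcx =>
          eq_one_of_commute h hq hxN hxq hc hcx.symm fun hd =>
            hqN (hd.trans (Subgroup.orderOf_mk c hc ▸ orderOf_dvd_natCard _))
        have hSV : Sg ≤ centralizer (V : Set G) := by
          refine FourPrimes.fix_abelian (t := q) hxord ⟨⟨fun u w => Subtype.ext (w.2.2.1 u u.2.1)⟩⟩
            (fun u _ => hHV (htop ▸ mem_top u)) (hHV (htop ▸ mem_top x)) hx ?_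
            (fun c hc => hfix c (hSN hc)) (fun c hc => hfix c (hRN (hVR hc)))
          obtain ⟨a, ha⟩ := IsPGroup.iff_card.mp hSp
          obtain ⟨b, hb⟩ := IsPGroup.iff_card.mp (hRp.to_le hVR)
          rw [ha, hb]
          exact Nat.Coprime.pow a b ((Nat.coprime_primes hs hr).mpr hsr)
        apply hC
        refine inf_le_right.trans ?_
        have hsupN : Rg ⊔ Sg = N := by
          refine Subgroup.eq_of_le_of_card_ge (sup_le hRN hSN) (Nat.le_of_dvd Nat.card_pos ?_)
          have eR : Nat.card Rg = r ^ (Nat.card N).factorization r := by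
            rw [hRg, card_map_of_injective N.subtype_injective]; exact R.card_eq_multiplicity
          have eS : Nat.card Sg = s ^ (Nat.card N).factorization s := by
            rw [hSg, card_map_of_injective N.subtype_injective]; exact S.card_eq_multiplicity
          refine (Nat.factorization_le_iff_dvd Nat.card_pos.ne' Nat.card_pos.ne').mp fun t => ?_
          by_cases h0 : (Nat.card N).factorization t = 0
          · rw [h0]; exact Nat.zero_le _
          have htp : t.Prime := by
            by_contra htp
            exact h0 (Nat.factorization_eq_zero_of_not_prime _ htp)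
          refine (htp.pow_dvd_iff_le_factorization Nat.card_pos.ne').mp ?_
          rcases hpr t htp (Nat.dvd_of_factorization_pos h0) with rfl | rfl
          · rw [← eR]; exact card_dvd_of_le le_sup_left
          · rw [← eS]; exact card_dvd_of_le le_sup_right
        exact hsupN ▸ sup_le hRC hSV
    · -- `H` is proper
      by_cases htwo' : ∃ a b : ℕ, a.Prime ∧ b.Prime ∧ a ≠ b ∧ a ∣ Nat.card (N.subgroupOf H) ∧ b ∣ Nat.card (N.subgroupOf H)
      · apply hns
        have hlt : Nat.card H < n := hn ▸ Nat.lt_of_le_of_ne (Subgroup.card_le_card_group H)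
          fun e => htop (Subgroup.eq_top_of_card_eq H e)
        haveI := ih _ hlt H rfl (N.subgroupOf H) (fun y hy => by
          rw [← Subgroup.orderOf_coe]; exact h y hy) htwo'
        refine solvable_of_surjective (f := QuotientGroup.lift (N.subgroupOf H) ((QuotientGroup.mk' N).comp H.subtype)
          (fun u hu => (QuotientGroup.eq_one_iff (u : G)).mpr hu)) fun y => ?_
        obtain ⟨g, rfl⟩ := QuotientGroup.mk'_surjective N y
        obtain ⟨u, hu, w, hw, rfl⟩ := mem_sup_of_normal_right.mp (hfr.symm ▸ mem_top g : g ∈ H ⊔ N)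
        exact ⟨((⟨u, hu⟩ : H) : H ⧸ N.subgroupOf H), QuotientGroup.eq.mpr (by simpa using hw)⟩
      · apply hC
        refine le_trans ?_ hRC
        have hp : IsPGroup r (N.subgroupOf H) := isPGroup_of_forall_prime_dvd fun t ht htd => by
          by_contra hne
          refine htwo' ⟨r, t, hr, ht, Ne.symm hne, ?_, htd⟩
          refine (R.dvd_card_of_dvd_card hrN).trans ?_
          rw [← card_map_of_injective N.subtype_injective (K := (R : Subgroup N)),
            ← Nat.card_congr (subgroupOfEquivOfLe (le_normalizer (H := Rg))).toEquiv]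
          exact card_dvd_of_le fun u hu => hRN hu
        have hp' : IsPGroup r ((H ⊓ N).subgroupOf N) := by
          refine IsPGroup.of_equiv ?_ (MulEquiv.refl _)
          have h1 := hp.map H.subtype
          rw [subgroupOf_map_subtype] at h1
          have h2 : IsPGroup r (H ⊓ N : Subgroup G) := by rwa [inf_comm]
          exact h2.of_equiv (subgroupOfEquivOfLe inf_le_right).symm
        have h3 := R.is_maximal' hp' (fun u hu => show (u : G) ∈ H ⊓ N from ⟨le_normalizer ⟨u, hu, rfl⟩, u.2⟩)
        intro u hu
        exact ⟨⟨u, hu.2⟩, h3 ▸ (show (⟨u, hu.2⟩ : N) ∈ (H ⊓ N).subgroupOf N from hu), rfl⟩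
  -- the quotient has rank one
  apply hns
  refine isSolvable_of_rankOne (fun y hy => isPrimePow_quotient h hy) fun q hq a b ha hb hab => ?_
  obtain ⟨r, s, hr, hs, hrs, hrN, hsN⟩ := htwo
  obtain ⟨t, ht, htq, htN⟩ : ∃ t, t.Prime ∧ q ≠ t ∧ t ∣ Nat.card N := by
    rcases eq_or_ne q r with rfl | hne
    · exact ⟨s, hs, hrs, hsN⟩
    · exact ⟨r, hr, hne, hrN⟩
  obtain ⟨H, V, h1, h2, h3, h4, h5, h6, h7⟩ := hgood t ht htN
  exact rank_one h hq ht htq h1 h2 h3 h4 h5 h6 h7 ha hb hab

end Cfsg.Agent.OuterPrimePower
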